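import Mathlib

/-! Fontaine–Laffaille: strictness from the surjectivity of Φ. -/

universe u v

namespace Groth.Agent.FonLafLib

variable {R : Type u} [CommRing R]

/-- multiples of `a` -/
def mults (a : R) (M : Type v) [AddCommGroup M] [Module R M] : Submodule R M :=
  LinearMap.range (LinearMap.lsmul R M a)

theorem mem_mults {a : R} {M : Type v} [AddCommGroup M] [Module R M] {x : M} :
    x ∈ mults a M ↔ ∃ y, a • y = x := Iff.rfl

/-- families indexed by naturals vanishing from `n` on -/
def Below (n : ℕ) (Q : ℕ → Type v) [∀ i, AddCommGroup (Q i)] [∀ i, Module R (Q i)] :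
    Submodule R ((i : ℕ) → Q i) where
  carrier := {z | ∀ i, n ≤ i → z i = 0}
  add_mem' ha hb i hi := by simp [ha i hi, hb i hi]
  zero_mem' := fun _ _ => rfl
  smul_mem' c z hz i hi := by simp [hz i hi]

theorem length_below_ne_top (n : ℕ) (Q : ℕ → Type v) [∀ i, AddCommGroup (Q i)] [∀ i, Module R (Q i)]
    (h : ∀ i, IsFiniteLength R (Q i)) : Module.length R (Below (R := R) n Q) ≠ ⊤ := by
  rw [Module.length_ne_top_iff, isFiniteLength_iff_isNoetherian_isArtinian]
  haveI := fun i : Fin n => (isFiniteLength_iff_isNoetherian_isArtinian.1 (h i)).1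
  haveI := fun i : Fin n => (isFiniteLength_iff_isNoetherian_isArtinian.1 (h i)).2
  let f : Below (R := R) n Q →ₗ[R] ((i : Fin n) → Q i) := LinearMap.pi fun i =>
    (LinearMap.proj (i : ℕ)).comp (Submodule.subtype _)
  have hf : Function.Injective f := by
    intro a b hab
    apply Subtype.ext
    funext i
    rcases lt_or_ge i n with hi | hi
    · exact congrFun hab ⟨i, hi⟩
    · rw [a.2 i hi, b.2 i hi]
  exact ⟨isNoetherian_of_injective f hf, isArtinian_of_injective f hf⟩

/-- split off the first entry -/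
def consEquiv (n : ℕ) (Q : ℕ → Type v) [∀ i, AddCommGroup (Q i)] [∀ i, Module R (Q i)] :
    Below (R := R) (n + 1) Q ≃ₗ[R] Q 0 × Below (R := R) n (fun i => Q (i + 1)) where
  toFun y := (y.1 0, ⟨fun i => y.1 (i + 1), fun i hi => y.2 (i + 1) (by omega)⟩)
  map_add' _ _ := rfl
  map_smul' _ _ := rfl
  invFun q := ⟨fun i => match i with | 0 => q.1 | i + 1 => q.2.1 i, fun i hi => by
    obtain ⟨j, rfl⟩ : ∃ j, i = j + 1 := ⟨i - 1, by omega⟩
    exact q.2.2 j (by omega)⟩
  left_inv y := by
    apply Subtype.ext; funext i; cases i <;> rfl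
  right_inv q := rfl

section semilinear

variable {σ : R →+* R} [RingHomSurjective σ]

theorem length_le_semilinear {M N : Type v} [AddCommGroup M] [Module R M] [AddCommGroup N] [Module R N]
    (g : M →ₛₗ[σ] N) (hg : Function.Injective g) : Module.length R M ≤ Module.length R N := by
  rw [← WithBot.coe_le_coe, Module.coe_length, Module.coe_length]
  exact Order.krullDim_le_of_strictMono (fun U => U.map g)
    (Monotone.strictMono_of_injective (fun _ _ h => Submodule.map_mono h) (Submodule.map_injective_of_injective hg))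

end semilinear

end Groth.Agent.FonLafLib

namespace Groth.Agent.FonLafLib

variable {R : Type u} [CommRing R] {σ : R →+* R} [RingHomSurjective σ]
  (r : ℕ) {N : ℕ → Type v} [∀ i, AddCommGroup (N i)] [∀ i, Module R (N i)]
  (hfl : ∀ i, IsFiniteLength R (N i)) (π : R) (hπ : σ π = π)
  (α : ∀ i, N (i + 1) →ₗ[R] N i) (φ : ∀ i, N i →ₛₗ[σ] N 0)
  (hrel : ∀ i, i < r → ∀ y : N (i + 1), φ i (α i y) = π • φ (i + 1) y)
  (hsurj : ∀ m : N 0, ∃ y : (i : ℕ) → N i, (∀ i, r < i → y i = 0) ∧
      (Finset.range (r + 1)).sum (fun i => φ i (y i)) = m)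
  (hker : ∀ y : (i : ℕ) → N i, (∀ i, r < i → y i = 0) →
      (Finset.range (r + 1)).sum (fun i => φ i (y i)) = 0 →
        ∃ z : (i : ℕ) → N (i + 1), (∀ i, r ≤ i → z i = 0) ∧
          y 0 = α 0 (z 0) ∧ ∀ i, y (i + 1) = α (i + 1) (z (i + 1)) - π • z i)

include hfl hπ hsurj hker in
/-- ι is injective modulo every power of π -/
theorem iota_inj_mod (k : ℕ) (z : (i : ℕ) → N (i + 1)) (hz : ∀ i, r ≤ i → z i = 0)
    (h0 : α 0 (z 0) ∈ mults (π ^ k) (N 0))
    (h1 : ∀ i, α (i + 1) (z (i + 1)) - π • z i ∈ mults (π ^ k) (N (i + 1))) :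
    ∀ i, z i ∈ mults (π ^ k) (N (i + 1)) := by
  classical
  let Q : ℕ → Type v := fun i => N i ⧸ mults (π ^ k) (N i)
  have hflQ : ∀ i, IsFiniteLength R (Q i) := fun i => (hfl i).of_surjective (Submodule.mkQ_surjective _)
  let T := Below (R := R) (r + 1) Q
  let S := Below (R := R) r (fun i => Q (i + 1))
  have hσk : σ (π ^ k) = π ^ k := by rw [map_pow, hπ]
  let a : ∀ i, Q (i + 1) →ₗ[R] Q i := fun i => Submodule.mapQ _ _ (α i) (by
    rintro _ ⟨y, rfl⟩; exact ⟨α i y, ((α i).map_smul (π ^ k) y).symm⟩)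
  let f : ∀ i, Q i →ₛₗ[σ] Q 0 := fun i => Submodule.mapQ _ _ (φ i) (by
    rintro _ ⟨y, rfl⟩
    exact ⟨φ i y, by simp [LinearMap.map_smulₛₗ, hσk]⟩)
  let ι : S →ₗ[R] T :=
    { toFun := fun w => ⟨fun i => match i with
        | 0 => a 0 (w.1 0)
        | i + 1 => a (i + 1) (w.1 (i + 1)) - π • w.1 i, fun i hi => by
        obtain ⟨j, rfl⟩ : ∃ j, i = j + 1 := ⟨i - 1, by omega⟩
        simp [w.2 j (by omega), w.2 (j + 1) (by omega)]⟩
      map_add' := fun w w' => by
        apply Subtype.ext; funext i; cases i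
        · simp
        · simp; abel
      map_smul' := fun c w => by
        apply Subtype.ext; funext i; cases i
        · simp
        · simp [smul_sub, smul_comm π c] }
  let Φ : T →ₛₗ[σ] Q 0 :=
    { toFun := fun y => ∑ i ∈ Finset.range (r + 1), f i (y.1 i)
      map_add' := fun y y' => by simp [Finset.sum_add_distrib]
      map_smul' := fun c y => by simp [Finset.smul_sum, LinearMap.map_smulₛₗ] }
  have hle : LinearMap.ker Φ ≤ LinearMap.range ι := by
    intro y hy
    choose y0 hy0 using fun i => Submodule.Quotient.mk_surjective (mults (π ^ k) (N i)) (y.1 i)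
    let y1 : (i : ℕ) → N i := fun i => if i ≤ r then y0 i else 0
    have hy1 : ∀ i, (Submodule.Quotient.mk (y1 i) : Q i) = y.1 i := fun i => by
      by_cases hi : i ≤ r
      · simp [y1, hi, hy0]
      · simp [y1, hi, y.2 i (by omega)]
    have hmem : ∑ i ∈ Finset.range (r + 1), φ i (y1 i) ∈ mults (π ^ k) (N 0) := by
      rw [← Submodule.Quotient.mk_eq_zero, ← Submodule.mkQ_apply, map_sum]
      have : Φ y = 0 := hy
      simp only [Φ, LinearMap.coe_mk, AddHom.coe_mk, ← hy1] at this
      exact (Finset.sum_congr rfl fun i _ => rfl).trans this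
    obtain ⟨m, hm⟩ := hmem
    obtain ⟨y2, hy2, hy2'⟩ := hsurj m
    obtain ⟨w, hw, hw0, hw1⟩ := hker (fun i => y1 i - π ^ k • y2 i)
      (fun i hi => by simp [y1, hy2 i hi, show ¬ i ≤ r by omega]) (by
      simp only [map_sub, LinearMap.map_smulₛₗ, hσk, Finset.sum_sub_distrib, ← Finset.smul_sum, hy2']
      exact sub_eq_zero.2 hm.symm)
    refine ⟨⟨fun i => Submodule.Quotient.mk (w i), fun i hi => by simp [hw i hi]⟩, ?_⟩
    have hz2 : ∀ i, (Submodule.Quotient.mk (y1 i - π ^ k • y2 i) : Q i) = y.1 i := fun i => by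
      rw [Submodule.Quotient.mk_sub, hy1,
        (Submodule.Quotient.mk_eq_zero _).2 (mem_mults.2 ⟨y2 i, rfl⟩), sub_zero]
    apply Subtype.ext; funext i; cases i with
    | zero =>
      show a 0 (Submodule.Quotient.mk (w 0)) = y.1 0
      rw [← hz2 0, hw0]; rfl
    | succ i =>
      show a (i + 1) (Submodule.Quotient.mk (w (i + 1))) - π • Submodule.Quotient.mk (w i) = y.1 (i + 1)
      rw [← hz2 (i + 1), hw1 i]; rfl
  have hTlen : Module.length R T = Module.length R (Q 0) + Module.length R S := by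
    rw [(consEquiv (R := R) r Q).length_eq, Module.length_prod]
  have hT1 : Module.length R T = Module.length R (LinearMap.ker Φ) + Module.length R (T ⧸ LinearMap.ker Φ) :=
    Module.length_eq_add_of_exact _ _ (LinearMap.ker Φ).injective_subtype (LinearMap.ker Φ).mkQ_surjective
      (LinearMap.exact_subtype_mkQ _)
  let Φ' : (T ⧸ LinearMap.ker Φ) →ₛₗ[σ] Q 0 := (LinearMap.ker Φ).liftQ Φ le_rfl
  have hΦ' : Function.Injective Φ' := by
    rw [← LinearMap.ker_eq_bot]; exact Submodule.ker_liftQ_eq_bot _ _ _ le_rfl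
  have hq : Module.length R (T ⧸ LinearMap.ker Φ) ≤ Module.length R (Q 0) := length_le_semilinear Φ' hΦ'
  have hr1 : Module.length R (LinearMap.ker Φ) ≤ Module.length R (LinearMap.range ι) :=
    Module.length_le_of_injective (Submodule.inclusion hle) (Submodule.inclusion_injective hle)
  have hr2 : Module.length R S = Module.length R (LinearMap.ker ι) + Module.length R (LinearMap.range ι) :=
    Module.length_eq_add_of_exact _ _ (LinearMap.ker ι).injective_subtype ι.surjective_rangeRestrict
      (LinearMap.exact_iff.2 (by rw [LinearMap.ker_rangeRestrict, Submodule.range_subtype]))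
  have hS : Module.length R S ≠ ⊤ := length_below_ne_top r _ fun i => hflQ (i + 1)
  have hQ0 : Module.length R (Q 0) ≠ ⊤ := Module.length_ne_top_iff.2 (hflQ 0)
  have hkι : Module.length R (LinearMap.ker ι) = 0 := by
    have h := hTlen.symm.le.trans (hT1.le.trans (add_le_add hr1 hq))
    rw [hr2] at hS h
    lift Module.length R (LinearMap.ker ι) to ℕ using (fun e => hS (by rw [e]; simp)) with A
    lift Module.length R (LinearMap.range ι) to ℕ using (fun e => hS (by rw [e]; simp)) with B
    lift Module.length R (Q 0) to ℕ using hQ0 with C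
    norm_cast at h ⊢
    omega
  haveI : Subsingleton (LinearMap.ker ι) := Module.length_eq_zero_iff.1 hkι
  let w : S := ⟨fun i => Submodule.Quotient.mk (z i), fun i hi => by simp [hz i hi]⟩
  have hw : w ∈ LinearMap.ker ι := by
    apply Subtype.ext; funext i; cases i with
    | zero => exact (Submodule.Quotient.mk_eq_zero _).2 h0
    | succ i => exact (Submodule.Quotient.mk_eq_zero _).2 (h1 i)
  have : w = 0 := congrArg Subtype.val (Subsingleton.elim (⟨w, hw⟩ : LinearMap.ker ι) 0)
  intro i
  exact (Submodule.Quotient.mk_eq_zero _).1 (congrFun (congrArg Subtype.val this) i)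

include hfl hπ hsurj hker in
theorem alpha_pure (i : ℕ) (hi : i < r) : ∀ (k : ℕ) (x : N (i + 1)),
    α i x ∈ mults (π ^ k) (N i) → x ∈ mults (π ^ k) (N (i + 1)) := by
  classical
  intro k
  induction k with
  | zero => intro x _; exact ⟨x, by simp⟩
  | succ k ih =>
    intro x hx
    have hx' : x ∈ mults (π ^ k) (N (i + 1)) := by
      refine ih x ?_
      obtain ⟨y, hy⟩ := hx
      exact ⟨π • y, by simp only [LinearMap.lsmul_apply] at hy ⊢; rw [← hy, pow_succ, mul_smul]⟩
    obtain ⟨x', hx'⟩ := hx'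
    let z : (j : ℕ) → N (j + 1) := Pi.single i x
    have key := iota_inj_mod r hfl π hπ α φ hsurj hker (k + 1) z (fun j hj => by
        simp [z, Pi.single_eq_of_ne (show j ≠ i by omega)]) ?_ ?_ i
    · simpa [z] using key
    · rcases eq_or_ne i 0 with rfl | h
      · simpa [z] using hx
      · simp [z, Pi.single_eq_of_ne h.symm]
    · intro j
      refine Submodule.sub_mem _ ?_ ?_
      · rcases eq_or_ne (j + 1) i with rfl | h
        · simpa [z] using hx
        · simp [z, Pi.single_eq_of_ne h]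
      · rcases eq_or_ne j i with rfl | h
        · simp only [z, Pi.single_eq_same]
          refine ⟨x', ?_⟩
          simp only [LinearMap.lsmul_apply] at hx' ⊢
          rw [← hx', pow_succ', mul_smul]
        · simp [z, Pi.single_eq_of_ne h]

theorem split_of_pure {R : Type u} [CommRing R] [IsDomain R] [IsPrincipalIdealRing R] (π : R)
    (hirr : ∀ q : R, Irreducible q → Associated q π) (hπ0 : π ≠ 0) {A B : Type v} [AddCommGroup A]
    [Module R A] [AddCommGroup B] [Module R B] [Module.Finite R B] (f : A →ₗ[R] B)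
    (htors : ∀ b : B, ∃ n : ℕ, π ^ n • b = 0)
    (hpure : ∀ (k : ℕ) (a : A), f a ∈ mults (π ^ k) B → a ∈ mults (π ^ k) A) :
    ∃ Q : Submodule R B, IsCompl (LinearMap.range f) Q := by
  classical
  have hM : Module.IsTorsion R (B ⧸ LinearMap.range f) := by
    intro q
    obtain ⟨b, rfl⟩ := Submodule.Quotient.mk_surjective _ q
    obtain ⟨n, hn⟩ := htors b
    refine ⟨⟨π ^ n, mem_nonZeroDivisors_of_ne_zero (pow_ne_zero n hπ0)⟩, ?_⟩
    show π ^ n • (Submodule.Quotient.mk b : B ⧸ LinearMap.range f) = 0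
    rw [← Submodule.Quotient.mk_smul, hn, Submodule.Quotient.mk_zero]
  obtain ⟨κ, _, p, hp, e, ⟨E⟩⟩ := Module.equiv_directSum_of_isTorsion hM
  have hlift : ∀ j, ∃ y : B, p j ^ e j • y = 0 ∧
      (Submodule.Quotient.mk y : B ⧸ LinearMap.range f) =
        E.symm (DirectSum.lof R κ _ j (Submodule.Quotient.mk 1)) := by
    intro j
    obtain ⟨b, hb⟩ := Submodule.Quotient.mk_surjective (LinearMap.range f)
      (E.symm (DirectSum.lof R κ (fun i => R ⧸ R ∙ p i ^ e i) j (Submodule.Quotient.mk 1)))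
    obtain ⟨u, hu⟩ := (hirr (p j) (hp j)).pow_pow (n := e j)
    have h0 : p j ^ e j • (Submodule.Quotient.mk b : B ⧸ LinearMap.range f) = 0 := by
      rw [hb, ← map_smul, ← map_smul, ← Submodule.Quotient.mk_smul,
        (Submodule.Quotient.mk_eq_zero _).2 (by simp [Submodule.mem_span_singleton_self]), map_zero, map_zero]
    rw [← Submodule.Quotient.mk_smul, Submodule.Quotient.mk_eq_zero] at h0
    obtain ⟨a, ha⟩ := h0
    obtain ⟨a', ha'⟩ := hpure (e j) a ⟨(↑u⁻¹ : R) • b, by
      rw [LinearMap.lsmul_apply, ha, smul_smul, ← hu, mul_assoc, Units.mul_inv, mul_one]⟩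
    refine ⟨b - (u : R) • f a', ?_, ?_⟩
    · rw [LinearMap.lsmul_apply] at ha'
      rw [smul_sub, smul_smul, hu, ← map_smul, ha', ha, sub_self]
    · rw [← hb, Submodule.Quotient.eq]
      exact ⟨-((u : R) • a'), by simp⟩
  choose y hy hy' using hlift
  let s : (B ⧸ LinearMap.range f) →ₗ[R] B :=
    (DirectSum.toModule R κ B fun j => (R ∙ p j ^ e j).liftQ (LinearMap.toSpanSingleton R B (y j))
      (by rw [Submodule.span_singleton_le_iff_mem]; exact hy j)) ∘ₗ E.toLinearMap
  have hs : (LinearMap.range f).mkQ ∘ₗ s = LinearMap.id := by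
    have : ((LinearMap.range f).mkQ ∘ₗ s) ∘ₗ E.symm.toLinearMap = E.symm.toLinearMap := by
      refine DirectSum.linearMap_ext R fun j => ?_
      ext
      simp [s]
      refine (congrArg Submodule.Quotient.mk ?_).trans (hy' j)
      show (R ∙ p j ^ e j).liftQ (LinearMap.toSpanSingleton R B (y j)) _ (Submodule.Quotient.mk 1) = y j
      exact one_smul R _
    ext q
    simpa using LinearMap.congr_fun this (E (Submodule.Quotient.mk q))
  refine ⟨LinearMap.range s, ?_, ?_⟩
  · rw [Submodule.disjoint_def]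
    rintro _ hx ⟨q, rfl⟩
    have := LinearMap.congr_fun hs q
    simp only [LinearMap.comp_apply, Submodule.mkQ_apply, LinearMap.id_apply] at this
    rw [(Submodule.Quotient.mk_eq_zero _).2 hx] at this
    rw [← this, map_zero]
  · rw [codisjoint_iff, eq_top_iff]
    intro b _
    have := LinearMap.congr_fun hs ((LinearMap.range f).mkQ b)
    simp only [LinearMap.comp_apply, Submodule.mkQ_apply, LinearMap.id_apply, Submodule.Quotient.eq] at this
    exact Submodule.mem_sup.2 ⟨_, neg_mem this, _, ⟨_, rfl⟩, by rw [neg_sub, sub_add_cancel]⟩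

theorem exists_pow_smul_eq_zero {R : Type u} [CommRing R] [IsLocalRing R] (π : R)
    (hπm : π ∈ IsLocalRing.maximalIdeal R) {M : Type v}
    [AddCommGroup M] [Module R M] (h : IsFiniteLength R M) :
    ∃ n : ℕ, ∀ b : M, π ^ n • b = 0 := by
  obtain ⟨_, _⟩ := isFiniteLength_iff_isNoetherian_isArtinian.1 h
  let c : ℕ →o (Submodule R M)ᵒᵈ :=
    ⟨fun n => OrderDual.toDual (mults (π ^ n) M), fun a b hab x ⟨y, hy⟩ => by
      obtain ⟨d, rfl⟩ := Nat.exists_eq_add_of_le hab
      exact ⟨π ^ d • y, by simp only [LinearMap.lsmul_apply] at hy ⊢; rw [← hy, pow_add, mul_smul]⟩⟩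
  obtain ⟨n, hn⟩ := IsArtinian.monotone_stabilizes c
  refine ⟨n, ?_⟩
  have hbot : mults (π ^ n) M = ⊥ := by
    refine Submodule.eq_bot_of_le_smul_of_le_jacobson_bot (IsLocalRing.maximalIdeal R) _
      (IsNoetherian.noetherian _) ?_ (IsLocalRing.maximalIdeal_le_jacobson _)
    intro x hx
    have : x ∈ mults (π ^ (n + 1)) M := by
      have := hn (n + 1) (by omega)
      exact (OrderDual.toDual.injective this) ▸ hx
    obtain ⟨y, rfl⟩ := this
    rw [LinearMap.lsmul_apply, pow_succ', mul_smul]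
    exact Submodule.smul_mem_smul hπm ⟨y, rfl⟩
  intro b
  have : π ^ n • b ∈ mults (π ^ n) M := ⟨b, rfl⟩
  rwa [hbot, Submodule.mem_bot] at this

end Groth.Agent.FonLafLib
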